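import Cfsg.Agent.Golay.Octads
import Cfsg.Prelude.Def_Spor_Mathieu

/-!
A permutation of prime order in `M24` which preserves a dodecad and fixes a point of it fixes a point
outside the dodecad as well: otherwise the octads through its orbits would form impossible designs.
-/

set_option autoImplicit false

namespace Cfsg.Agent.Golay94

open Cfsg Cfsg.Agent.Golay Finset
open scoped Pointwise symmDiff

/-- Double counting of incidences. -/
theorem mul_card_eq {α : Type*} [DecidableEq α] (𝔅 : Finset (Finset α)) (M : Finset α) (k r : ℕ)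
    (hk : ∀ O ∈ 𝔅, (O ∩ M).card = k) (hr : ∀ x ∈ M, (𝔅.filter (x ∈ ·)).card = r) :
    k * 𝔅.card = r * M.card := by
  calc k * 𝔅.card = ∑ O ∈ 𝔅, (O ∩ M).card := by
        rw [Finset.sum_congr rfl hk, Finset.sum_const, smul_eq_mul, mul_comm]
    _ = ∑ O ∈ 𝔅, ∑ x ∈ M, if x ∈ O then 1 else 0 := by
        refine Finset.sum_congr rfl fun O _ => ?_
        rw [← Finset.card_filter]
        congr 1
        ext x; simp [and_comm]
    _ = ∑ x ∈ M, ∑ O ∈ 𝔅, if x ∈ O then 1 else 0 := Finset.sum_comm
    _ = r * M.card := by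
        rw [Finset.sum_congr rfl (fun x hx => (Finset.card_filter _ _).symm.trans (hr x hx)),
          Finset.sum_const, smul_eq_mul, mul_comm]

variable {g : Equiv.Perm GolayPt}

theorem apply_mem {s : Finset GolayPt} (hs : g • s = s) {x : GolayPt} : g x ∈ s ↔ x ∈ s := by
  conv_lhs => rw [← hs]
  exact Finset.smul_mem_smul_finset_iff g

theorem fixed_mod {p : ℕ} [Fact p.Prime] (hg : g ^ p = 1) {s : Finset GolayPt} (hs : g • s = s) :
    (s.filter fun x => g x = x).card ≡ s.card [MOD p] := by
  have hsub : ∀ x, g x ∈ s ↔ x ∈ s := fun x => apply_mem hs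
  have h1 : (g.subtypePerm hsub) ^ p ^ 1 = 1 := by
    ext x; simp [pow_one, Equiv.Perm.subtypePerm_pow, hg]
  have h := Equiv.Perm.card_compl_support_modEq h1
  rw [Fintype.card_coe] at h
  have e : (g.subtypePerm hsub).supportᶜ.card = (s.filter fun x => g x = x).card := by
    rw [← Finset.card_map (Function.Embedding.subtype (· ∈ s))]
    congr 1
    ext x
    constructor
    · intro hx
      simp only [Finset.mem_map, Finset.mem_compl, Equiv.Perm.mem_support, not_not] at hx
      obtain ⟨y, hy, rfl⟩ := hx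
      simp only [Finset.mem_filter]
      exact ⟨y.2, congrArg Subtype.val hy⟩
    · intro hx
      simp only [Finset.mem_filter] at hx
      simp only [Finset.mem_map, Finset.mem_compl, Equiv.Perm.mem_support, not_not]
      exact ⟨⟨x, hx.1⟩, Subtype.ext hx.2, rfl⟩
  rwa [e] at h

theorem octad_through {s : Finset GolayPt} (hs : s.card = 5) : ∃ O ∈ octads, s ⊆ O :=
  let ⟨O, h, _⟩ := octads_isSteiner.2 s hs
  ⟨O, h.1, h.2⟩

theorem octad_unique {s O O' : Finset GolayPt} (hs : 5 ≤ s.card) (hO : O ∈ octads) (hO' : O' ∈ octads)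
    (h : s ⊆ O) (h' : s ⊆ O') : O = O' := by
  obtain ⟨t, ht, htc⟩ := Finset.exists_subset_card_eq hs
  exact (octads_isSteiner.2 t htc).unique ⟨hO, ht.trans h⟩ ⟨hO', ht.trans h'⟩

theorem octad_invariant (hg : g ∈ M24) {s O : Finset GolayPt} (hs : 5 ≤ s.card) (hsg : g • s = s)
    (hO : O ∈ octads) (h : s ⊆ O) : g • O = O := by
  refine octad_unique hs (smul_mem_octads hg hO) hO ?_ h
  rw [← hsg]
  exact Finset.smul_finset_subset_smul_finset h

theorem card_inter_dodecad {O D : Finset GolayPt} (hO : O ∈ octads) (hD : D ∈ dodecads) :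
    (O ∩ D).card = 2 ∨ (O ∩ D).card = 4 ∨ (O ∩ D).card = 6 := by
  rw [mem_octads_iff] at hO
  rw [mem_dodecads_iff] at hD
  have h := card_cases_of_mem (supports_symmDiff hO.1 hD.1)
  have h2 := card_symmDiff_add O D
  have h3 : (O ∩ D).card ≤ 8 := hO.2 ▸ Finset.card_le_card Finset.inter_subset_left
  omega

theorem smul_fixed {s : Finset GolayPt} (h : ∀ x ∈ s, g x = x) : g • s = s := by
  ext x
  rw [Finset.mem_smul_finset]
  exact ⟨fun ⟨y, hy, e⟩ => by rw [← e, Equiv.Perm.smul_def, h y hy]; exact hy, fun hx => ⟨x, hx, h x hx⟩⟩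

theorem smul_orbit {x : GolayPt} (h : g (g x) = x) : g • ({x, g x} : Finset GolayPt) = {x, g x} := by
  ext y
  simp [Finset.mem_smul_finset, Equiv.Perm.smul_def, h, or_comm, eq_comm]

theorem smul_orbit_three {x : GolayPt} (h : g (g (g x)) = x) :
    g • ({x, g x, g (g x)} : Finset GolayPt) = {x, g x, g (g x)} := by
  ext y
  simp only [Finset.mem_smul_finset, Equiv.Perm.smul_def, Finset.mem_insert, Finset.mem_singleton]
  constructor
  · rintro ⟨z, rfl | rfl | rfl, rfl⟩ <;> simp [h]
  · rintro (rfl | rfl | rfl)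
    · exact ⟨g (g y), by simp, h⟩
    · exact ⟨x, by simp, rfl⟩
    · exact ⟨g x, by simp, rfl⟩

/-- The data of a counterexample. -/
structure Bad (g : Equiv.Perm GolayPt) (D : Finset GolayPt) : Prop where
  mem : g ∈ M24
  dodecad : D ∈ dodecads
  inv : g • D = D
  out : ∀ x, x ∉ D → g x ≠ x

namespace Bad

variable {D : Finset GolayPt}

theorem fix_mem (H : Bad g D) {x : GolayPt} (hx : g x = x) : x ∈ D :=
  by_contra fun h => H.out x h hx

/-- An invariant octad contains six points of `D` and two others, provided five of its points are fixed. -/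
theorem six_fixed (H : Bad g D) {p : ℕ} [Fact p.Prime] (hp : g ^ p = 1) {s O : Finset GolayPt}
    (hs : 5 ≤ s.card) (hfix : ∀ x ∈ s, g x = x) (hO : O ∈ octads) (hsO : s ⊆ O) :
    p = 2 ∧ (O.filter fun x => g x = x).card = 6 := by
  have hinv := octad_invariant H.mem hs (smul_fixed hfix) hO hsO
  have hsD : s ⊆ O ∩ D := fun x hx => Finset.mem_inter.2 ⟨hsO hx, H.fix_mem (hfix x hx)⟩
  have h6 : (O ∩ D).card = 6 := by
    have := Finset.card_le_card hsD
    rcases card_inter_dodecad hO H.dodecad with h | h | h <;> omega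
  have hinvD : g • (O \ D) = O \ D := by rw [Finset.smul_finset_sdiff, hinv, H.inv]
  have h2 : (O \ D).card = 2 := by
    have := Finset.card_sdiff_add_card_inter O D
    have := (mem_octads_iff.1 hO).2
    omega
  have hm := fixed_mod hp hinvD
  rw [h2, Finset.filter_false_of_mem (fun x hx => H.out x (Finset.mem_sdiff.1 hx).2)] at hm
  have hp2 : p = 2 := by
    have : p ∣ 2 := (Nat.modEq_zero_iff_dvd.1 hm.symm)
    exact (Nat.prime_dvd_prime_iff_eq (Fact.out) Nat.prime_two).1 this
  subst hp2
  refine ⟨rfl, ?_⟩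
  have hlow : 5 ≤ (O.filter fun x => g x = x).card :=
    hs.trans (Finset.card_le_card fun x hx => Finset.mem_filter.2 ⟨hsO hx, hfix x hx⟩)
  have hup : (O.filter fun x => g x = x).card ≤ 6 :=
    h6 ▸ Finset.card_le_card fun x hx => by
      rw [Finset.mem_filter] at hx
      exact Finset.mem_inter.2 ⟨hx.1, H.fix_mem hx.2⟩
  have hmO := fixed_mod hp hinv
  rw [(mem_octads_iff.1 hO).2] at hmO
  rw [Nat.ModEq] at hmO
  omega

theorem not_five_fixed (H : Bad g D) {p : ℕ} [Fact p.Prime] (hp : g ^ p = 1) {s : Finset GolayPt}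
    (hfix : ∀ x ∈ s, g x = x) : s.card < 5 := by
  by_contra! hs
  obtain ⟨t, hts, htc⟩ := Finset.exists_subset_card_eq hs
  obtain ⟨O, hO, htO⟩ := octad_through htc
  obtain ⟨rfl, h6⟩ := H.six_fixed hp htc.ge (fun x hx => hfix x (hts hx)) hO htO
  set A := O.filter fun x => g x = x with hA
  have hinv := octad_invariant H.mem htc.ge (smul_fixed fun x hx => hfix x (hts hx)) hO htO
  -- a moved point outside `O`
  obtain ⟨x, hxD, hxO⟩ : ∃ x ∈ Dᶜ, x ∉ O := by
    refine Finset.exists_mem_notMem_of_card_lt_card ?_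
    rw [Finset.card_compl, card_golayPt, (mem_dodecads_iff.1 H.dodecad).2, (mem_octads_iff.1 hO).2]
    norm_num
  have hgx : g x ≠ x := H.out x (Finset.mem_compl.1 hxD)
  have hggx : g (g x) = x := by
    rw [← Equiv.Perm.mul_apply, ← pow_two, hp, Equiv.Perm.one_apply]
  have hgxO : g x ∉ O := fun h => hxO ((apply_mem hinv).1 h)
  classical
  let 𝔅 := (octads.toFinite.toFinset).filter fun o => x ∈ o ∧ g x ∈ o ∧ 3 ≤ (o ∩ A).card
  have h4 : ∀ o ∈ 𝔅, (o ∩ A).card = 4 := by
    intro o ho
    simp only [𝔅, Finset.mem_filter, Set.Finite.mem_toFinset] at ho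
    obtain ⟨ho, hx, hgxo, h3⟩ := ho
    have hne : o ≠ O := fun e => hxO (e ▸ hx)
    have hsub : o ∩ A ⊆ o ∩ O := Finset.inter_subset_inter_left (Finset.filter_subset _ _)
    have hinv' : g • o = o := by
      refine octad_invariant H.mem (s := (o ∩ A) ∪ {x, g x}) ?_ ?_ ho ?_
      · rw [Finset.card_union_of_disjoint, Finset.card_pair hgx.symm]
        · omega
        · rw [Finset.disjoint_left]
          intro y hy hy'
          have hyA := (Finset.mem_filter.1 (Finset.mem_inter.1 hy).2).1
          simp only [Finset.mem_insert, Finset.mem_singleton] at hy'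
          rcases hy' with rfl | rfl
          · exact hxO hyA
          · exact hgxO hyA
      · rw [Finset.smul_finset_union, smul_orbit hggx,
          smul_fixed fun y hy => (Finset.mem_filter.1 (Finset.mem_inter.1 hy).2).2]
      · exact Finset.union_subset Finset.inter_subset_left (by simp [Finset.insert_subset_iff, hx, hgxo])
    have hO4 : (o ∩ O).card = 4 := by
      have := Finset.card_le_card hsub
      rcases card_inter_octads ho hO hne with h | h | h <;> omega
    have hm := fixed_mod hp (s := o ∩ O) (by rw [Finset.smul_finset_inter, hinv', hinv])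
    have he : (o ∩ O).filter (fun y => g y = y) = o ∩ A := by
      ext y; simp [hA, and_assoc]
    rw [he, hO4, Nat.ModEq] at hm
    have := Finset.card_le_card hsub
    omega
  have htriple : ∀ T ⊆ A, T.card = 3 → ∃! o, o ∈ 𝔅 ∧ T ⊆ o := by
    intro T hT hTc
    have hc : (T ∪ {x, g x}).card = 5 := by
      rw [Finset.card_union_of_disjoint, Finset.card_pair hgx.symm, hTc]
      rw [Finset.disjoint_left]
      intro y hy hy'
      simp only [Finset.mem_insert, Finset.mem_singleton] at hy'
      rcases hy' with rfl | rfl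
      · exact hxO (Finset.mem_filter.1 (hT hy)).1
      · exact hgxO (Finset.mem_filter.1 (hT hy)).1
    obtain ⟨o, ⟨ho, hso⟩, huniq⟩ := octads_isSteiner.2 _ hc
    rw [Finset.union_subset_iff] at hso
    refine ⟨o, ⟨?_, hso.1⟩, fun o' ho' => huniq o' ⟨?_, ?_⟩⟩
    · simp only [𝔅, Finset.mem_filter, Set.Finite.mem_toFinset]
      exact ⟨ho, hso.2 (by simp), hso.2 (by simp),
        hTc ▸ Finset.card_le_card (Finset.subset_inter hso.1 hT)⟩
    · have := ho'.1
      simp only [𝔅, Finset.mem_filter, Set.Finite.mem_toFinset] at this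
      exact this.1
    · have := ho'.1
      simp only [𝔅, Finset.mem_filter, Set.Finite.mem_toFinset] at this
      exact Finset.union_subset ho'.2 (by simp [Finset.insert_subset_iff, this.2.1, this.2.2.1])
  -- fix a point `a` of `A`: the other five points lie in two blocks each, three in a block
  obtain ⟨a, ha⟩ := Finset.card_pos.1 (show 0 < A.card by omega)
  have hr : ∀ b ∈ A.erase a, ((𝔅.filter (a ∈ ·)).filter (b ∈ ·)).card = 2 := by
    intro b hb
    have hba := (Finset.mem_erase.1 hb).1
    have hbA := (Finset.mem_erase.1 hb).2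
    have hk : ∀ o ∈ (𝔅.filter (a ∈ ·)).filter (b ∈ ·), (o ∩ ((A.erase a).erase b)).card = 2 := by
      intro o ho
      simp only [Finset.mem_filter] at ho
      have e : o ∩ ((A.erase a).erase b) = ((o ∩ A).erase a).erase b := by
        ext y; simp [and_left_comm, and_comm]
      rw [e, Finset.card_erase_of_mem, Finset.card_erase_of_mem, h4 o ho.1.1]
      · exact Finset.mem_inter.2 ⟨ho.1.2, ha⟩
      · exact Finset.mem_erase.2 ⟨hba, Finset.mem_inter.2 ⟨ho.2, hbA⟩⟩
    have h1 : ∀ c ∈ (A.erase a).erase b,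
        (((𝔅.filter (a ∈ ·)).filter (b ∈ ·)).filter (c ∈ ·)).card = 1 := by
      intro c hc
      simp only [Finset.mem_erase] at hc
      obtain ⟨o, ho, hu⟩ := htriple {a, b, c}
        (by simp [Finset.insert_subset_iff, ha, hbA, hc.2.2])
        (Finset.card_eq_three.2 ⟨a, b, c, hba.symm, hc.2.1.symm, hc.1.symm, rfl⟩)
      simp only [Finset.insert_subset_iff, Finset.singleton_subset_iff] at ho hu
      refine Finset.card_eq_one.2 ⟨o, ?_⟩
      ext o'
      simp only [Finset.mem_filter, Finset.mem_singleton]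
      exact ⟨fun h => hu o' ⟨h.1.1.1, h.1.1.2, h.1.2, h.2⟩,
        fun h => h ▸ ⟨⟨⟨ho.1, ho.2.1⟩, ho.2.2.1⟩, ho.2.2.2⟩⟩
    have := mul_card_eq _ _ 2 1 hk h1
    rw [Finset.card_erase_of_mem hb, Finset.card_erase_of_mem ha, h6] at this
    omega
  have hk : ∀ o ∈ 𝔅.filter (a ∈ ·), (o ∩ A.erase a).card = 3 := by
    intro o ho
    simp only [Finset.mem_filter] at ho
    rw [Finset.inter_erase, Finset.card_erase_of_mem (Finset.mem_inter.2 ⟨ho.2, ha⟩), h4 o ho.1]
  have := mul_card_eq _ _ 3 2 hk hr
  rw [Finset.card_erase_of_mem ha, h6] at this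
  omega

theorem not_three (H : Bad g D) (hp : g ^ 3 = 1) (hF : (univ.filter fun x => g x = x).card = 3) :
    False := by
  have : Fact (Nat.Prime 3) := ⟨Nat.prime_three⟩
  classical
  set F := univ.filter fun x => g x = x with hFdef
  obtain ⟨a, b, c, hab, -, -, hF3⟩ := Finset.card_eq_three.1 hF
  have ha : g a = a := by
    have : a ∈ F := by simp [hF3]
    simpa [hFdef] using this
  have hb : g b = b := by
    have : b ∈ F := by simp [hF3]
    simpa [hFdef] using this
  have h3 : ∀ x, g (g (g x)) = x := fun x => by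
    have := Equiv.ext_iff.1 hp x
    simpa [pow_succ] using this
  let 𝔅 := (octads.toFinite.toFinset).filter fun o => g • o = o ∧ a ∈ o ∧ b ∈ o
  have hk : ∀ o ∈ 𝔅, (o ∩ Fᶜ).card = 6 := by
    intro o ho
    simp only [𝔅, Finset.mem_filter, Set.Finite.mem_toFinset] at ho
    have hm := fixed_mod hp ho.2.1
    have hc := (mem_octads_iff.1 ho.1).2
    rw [hc, Nat.ModEq] at hm
    have hlo : 2 ≤ (o.filter fun x => g x = x).card :=
      (Finset.card_pair hab).ge.trans (Finset.card_le_card (by
        simp [Finset.insert_subset_iff, ho.2.2.1, ho.2.2.2, ha, hb]))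
    have hhi : (o.filter fun x => g x = x).card ≤ 3 :=
      hF ▸ Finset.card_le_card (fun x hx => by
        simp only [hFdef, Finset.mem_filter, Finset.mem_univ, true_and]
        exact (Finset.mem_filter.1 hx).2)
    have e : o ∩ Fᶜ = o.filter fun x => ¬ g x = x := by ext x; simp [hFdef]
    rw [e]
    have := Finset.card_filter_add_card_filter_not (s := o) (fun x => g x = x)
    omega
  have hr : ∀ x ∈ Fᶜ, (𝔅.filter (x ∈ ·)).card = 1 := by
    intro x hx
    have hx' : g x ≠ x := by simpa [hFdef] using hx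
    have n1 : g (g x) ≠ g x := fun h => hx' (g.injective h)
    have n2 : g (g x) ≠ x := fun h => hx' (by
      have := h3 x; rw [h] at this; exact this)
    have hm : ∀ y, g y = y → y ∉ ({x, g x, g (g x)} : Finset GolayPt) := by
      intro y hy h
      simp only [Finset.mem_insert, Finset.mem_singleton] at h
      rcases h with rfl | rfl | rfl
      · exact hx' hy
      · exact n1 hy
      · exact n1 (g.injective hy)
    have hs : (({a, b} : Finset GolayPt) ∪ {x, g x, g (g x)}).card = 5 := by
      rw [Finset.card_union_of_disjoint, Finset.card_pair hab,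
        Finset.card_eq_three.2 ⟨x, g x, g (g x), hx'.symm, n2.symm, n1.symm, rfl⟩]
      simp only [Finset.disjoint_insert_left, Finset.disjoint_singleton_left]
      exact ⟨hm a ha, hm b hb⟩
    obtain ⟨o, ⟨ho, hso⟩, hu⟩ := octads_isSteiner.2 _ hs
    have hinv : g • o = o := octad_invariant H.mem hs.ge (by
      rw [Finset.smul_finset_union, smul_orbit_three (h3 x), smul_fixed (by simp [ha, hb])]) ho hso
    simp only [Finset.union_subset_iff, Finset.insert_subset_iff, Finset.singleton_subset_iff] at hso
    refine Finset.card_eq_one.2 ⟨o, ?_⟩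
    ext o'
    simp only [𝔅, Finset.mem_filter, Set.Finite.mem_toFinset, Finset.mem_singleton]
    refine ⟨fun h => hu o' ⟨h.1.1, ?_⟩, fun h => h ▸ ⟨⟨ho, hinv, hso.1.1, hso.1.2⟩, hso.2.1⟩⟩
    have h1 := (apply_mem h.1.2.1).2 h.2
    simp [Finset.union_subset_iff, Finset.insert_subset_iff, h.1.2.2.1, h.1.2.2.2, h.2, h1,
      (apply_mem h.1.2.1).2 h1]
  have := mul_card_eq _ _ 6 1 hk hr
  rw [Finset.card_compl, card_golayPt, hF] at this
  omega

set_option maxHeartbeats 800000 in
/-- Invariant octads through a fixed point `a` having exactly two fixed points. -/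
theorem not_two_or_four (H : Bad g D) (hp : g ^ 2 = 1) {f : ℕ}
    (hF : (univ.filter fun x => g x = x).card = f) (hf : f = 2 ∨ f = 4) : False := by
  have : Fact (Nat.Prime 2) := ⟨Nat.prime_two⟩
  classical
  set F := univ.filter fun x => g x = x with hFdef
  have memF : ∀ y, y ∈ F ↔ g y = y := fun y => by simp [hFdef]
  obtain ⟨a, haF⟩ := Finset.card_pos.1 (show 0 < F.card by omega)
  have ha : g a = a := (memF a).1 haF
  have h2 : ∀ x, g (g x) = x := fun x => by
    have := Equiv.ext_iff.1 hp x
    simpa [pow_succ] using this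
  let 𝔅 := (octads.toFinite.toFinset).filter fun o => g • o = o ∧ a ∈ o ∧ (o ∩ F).card = 2
  have hmem : ∀ o, o ∈ 𝔅 ↔ o ∈ octads ∧ g • o = o ∧ a ∈ o ∧ (o ∩ F).card = 2 := fun o => by
    simp [𝔅]
  have hk : ∀ o ∈ 𝔅, (o ∩ Fᶜ).card = 6 := by
    intro o ho
    rw [hmem] at ho
    have e : o ∩ Fᶜ = o \ F := by rw [← Finset.sdiff_eq_inter_compl]
    rw [e]
    have := Finset.card_sdiff_add_card_inter o F
    have := (mem_octads_iff.1 ho.1).2
    omega
  have hr : ∀ x ∈ Fᶜ, (𝔅.filter (x ∈ ·)).card = if f = 2 then 5 else 4 := by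
    intro x hx
    have hx' : g x ≠ x := fun h => (Finset.mem_compl.1 hx) ((memF x).2 h)
    have hgxF : g x ∉ F := fun h => hx' (g.injective ((memF _).1 h))
    have hpair : ∀ y, g y = y → y ≠ x ∧ y ≠ g x := fun y hy =>
      ⟨fun h => hx' (h ▸ hy), fun h => hgxF (h ▸ (memF y).2 hy)⟩
    -- the block containing all fixed points, if there are four
    have hE : ∀ o ∈ octads, g • o = o → a ∈ o → x ∈ o → (o ∩ F).card = 2 ∨ (F ⊆ o ∧ f = 4) := by
      intro o ho hinv hao hxo
      have hm := fixed_mod hp hinv
      have e : o.filter (fun y => g y = y) = o ∩ F := by ext y; simp [memF]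
      rw [e, (mem_octads_iff.1 ho).2, Nat.ModEq] at hm
      have h1 : 1 ≤ (o ∩ F).card := Finset.card_pos.2 ⟨a, Finset.mem_inter.2 ⟨hao, haF⟩⟩
      have h2' : (o ∩ F).card ≤ f := hF ▸ Finset.card_le_card Finset.inter_subset_right
      rcases hf with rfl | rfl
      · left; omega
      · have : (o ∩ F).card = 2 ∨ (o ∩ F).card = 4 := by omega
        rcases this with h | h
        · exact Or.inl h
        · refine Or.inr ⟨?_, rfl⟩
          have := Finset.eq_of_subset_of_card_le (Finset.inter_subset_right : o ∩ F ⊆ F) (by omega)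
          exact this ▸ Finset.inter_subset_left
    let U := 𝔅.filter (x ∈ ·)
    let R := Fᶜ \ {x, g x}
    have hUk : ∀ o ∈ U, (o ∩ R).card = 4 := by
      intro o ho
      simp only [U, Finset.mem_filter] at ho
      have hgo : g x ∈ o := (apply_mem ((hmem o).1 ho.1).2.1).2 ho.2
      have e : o ∩ R = (o ∩ Fᶜ) \ {x, g x} := by
        ext y; simp [R, and_assoc]
      rw [e, Finset.card_sdiff_of_subset, hk o ho.1, Finset.card_pair hx'.symm]
      intro y hy
      simp only [Finset.mem_insert, Finset.mem_singleton] at hy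
      rcases hy with rfl | rfl
      · exact Finset.mem_inter.2 ⟨ho.2, hx⟩
      · exact Finset.mem_inter.2 ⟨hgo, Finset.mem_compl.2 hgxF⟩
    -- the points of `R` not covered by `U`
    let Z := R.filter fun y => ∀ o ∈ U, y ∉ o
    have hcover : ∀ y ∈ R, ∃ o ∈ octads, g • o = o ∧ a ∈ o ∧ x ∈ o ∧ y ∈ o ∧
        ∀ o' ∈ octads, g • o' = o' → a ∈ o' → x ∈ o' → y ∈ o' → o' = o := by
      intro y hy
      simp only [R, Finset.mem_sdiff, Finset.mem_compl, Finset.mem_insert, Finset.mem_singleton,
        not_or, memF] at hy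
      obtain ⟨hy', hyx, hygx⟩ := hy
      have n1 : g y ≠ x := fun h => hygx (by rw [← h, h2])
      have n2 : g y ≠ g x := fun h => hyx (g.injective h)
      have n3 : a ≠ y ∧ a ≠ g y := ⟨fun h => hy' (h ▸ ha),
        fun h => hy' (g.injective (by rw [← h, ha]))⟩
      have hs : ({a, x, g x, y, g y} : Finset GolayPt).card = 5 := by
        rw [Finset.card_insert_of_notMem, Finset.card_insert_of_notMem, Finset.card_insert_of_notMem,
          Finset.card_insert_of_notMem, Finset.card_singleton]
        · simp [Ne.symm hy']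
        · simp [Ne.symm hygx, Ne.symm n2]
        · simp [hx'.symm, Ne.symm hyx, Ne.symm n1]
        · simp [hpair a ha, n3]
      obtain ⟨o, ⟨ho, hso⟩, hu⟩ := octads_isSteiner.2 _ hs
      have hinv : g • o = o := octad_invariant H.mem hs.ge (by
        have e : ({a, x, g x, y, g y} : Finset GolayPt) = {a} ∪ ({x, g x} ∪ {y, g y}) := by
          simp only [Finset.insert_union, Finset.singleton_union]
        rw [e, Finset.smul_finset_union, Finset.smul_finset_union, smul_orbit (h2 x),
          smul_orbit (h2 y), smul_fixed (by simp [ha])]) ho hso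
      simp only [Finset.insert_subset_iff, Finset.singleton_subset_iff] at hso
      refine ⟨o, ho, hinv, hso.1, hso.2.1, hso.2.2.2.1, fun o' ho' hi ha' hx'' hy'' =>
        hu o' ⟨ho', ?_⟩⟩
      simp [Finset.insert_subset_iff, ha', hx'', hy'', (apply_mem hi).2 hx'', (apply_mem hi).2 hy'']
    have hU1 : ∀ y ∈ R \ Z, (U.filter (y ∈ ·)).card = 1 := by
      intro y hy
      simp only [Z, Finset.mem_sdiff, Finset.mem_filter, not_and, not_forall, not_not,
        exists_prop] at hy
      obtain ⟨o, hoU, hyo⟩ := hy.2 hy.1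
      obtain ⟨o₀, -, -, -, -, -, hu⟩ := hcover y hy.1
      have huniq : ∀ o' ∈ U, y ∈ o' → o' = o₀ := by
        intro o' ho' hyo'
        simp only [U, Finset.mem_filter, hmem] at ho'
        exact hu o' ho'.1.1 ho'.1.2.1 ho'.1.2.2.1 ho'.2 hyo'
      refine Finset.card_eq_one.2 ⟨o, ?_⟩
      ext o'
      simp only [Finset.mem_filter, Finset.mem_singleton]
      exact ⟨fun h => (huniq o' h.1 h.2).trans (huniq o hoU hyo).symm, fun h => h ▸ ⟨hoU, hyo⟩⟩
    have hUk' : ∀ o ∈ U, (o ∩ (R \ Z)).card = 4 := by
      intro o ho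
      rw [← hUk o ho]
      congr 1
      ext y
      simp only [Finset.mem_inter, Finset.mem_sdiff, Z, Finset.mem_filter, not_and, not_forall,
        not_not, exists_prop]
      exact ⟨fun h => ⟨h.1, h.2.1⟩, fun h => ⟨h.1, h.2, fun _ => ⟨o, ho, h.1⟩⟩⟩
    have hcount := mul_card_eq U (R \ Z) 4 1 hUk' hU1
    have hR : R.card = 22 - f := by
      simp only [R]
      rw [Finset.card_sdiff_of_subset, Finset.card_compl, card_golayPt, hF, Finset.card_pair hx'.symm]
      · omega
      · simp [Finset.insert_subset_iff, Finset.mem_compl.1 hx, hgxF]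
    have hZ : Z.card = if f = 2 then 0 else 2 := by
      rcases hf with rfl | rfl
      · rw [if_pos rfl, Finset.card_eq_zero, Finset.eq_empty_iff_forall_notMem]
        intro y hy
        simp only [Z, Finset.mem_filter] at hy
        obtain ⟨o, ho, hinv, hao, hxo, hyo, -⟩ := hcover y hy.1
        rcases hE o ho hinv hao hxo with h | h
        · exact hy.2 o (Finset.mem_filter.2 ⟨(hmem o).2 ⟨ho, hinv, hao, h⟩, hxo⟩) hyo
        · omega
      · rw [if_neg (by norm_num)]
        have hs : (F ∪ {x, g x}).card = 6 := by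
          rw [Finset.card_union_of_disjoint, hF, Finset.card_pair hx'.symm]
          simp [Finset.disjoint_insert_right, Finset.mem_compl.1 hx, hgxF]
        obtain ⟨s, hss, hsc⟩ := Finset.exists_subset_card_eq (show 5 ≤ (F ∪ {x, g x}).card by omega)
        -- take three fixed points with the moved pair
        obtain ⟨T, hT, hTc⟩ := Finset.exists_subset_card_eq (show 3 ≤ F.card by omega)
        have hs5 : (T ∪ {x, g x}).card = 5 := by
          rw [Finset.card_union_of_disjoint, hTc, Finset.card_pair hx'.symm]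
          simp only [Finset.disjoint_insert_right, Finset.disjoint_singleton_right]
          exact ⟨fun h => Finset.mem_compl.1 hx (hT h), fun h => hgxF (hT h)⟩
        obtain ⟨W, ⟨hW, hsW⟩, hWu⟩ := octads_isSteiner.2 _ hs5
        have hWinv : g • W = W := octad_invariant H.mem hs5.ge (by
          rw [Finset.smul_finset_union, smul_orbit (h2 x), smul_fixed fun y hy => (memF y).1 (hT hy)])
          hW hsW
        rw [Finset.union_subset_iff] at hsW
        have hxW : x ∈ W := hsW.2 (by simp)
        have hgxW : g x ∈ W := hsW.2 (by simp)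
        have hFW : F ⊆ W := by
          have hm := fixed_mod hp hWinv
          have e : W.filter (fun y => g y = y) = W ∩ F := by ext y; simp [memF]
          rw [e, (mem_octads_iff.1 hW).2, Nat.ModEq] at hm
          have h3 : 3 ≤ (W ∩ F).card := hTc ▸ Finset.card_le_card (Finset.subset_inter hsW.1 hT)
          have hle : (W ∩ F).card ≤ 4 := hF ▸ Finset.card_le_card Finset.inter_subset_right
          exact (Finset.eq_of_subset_of_card_le (Finset.inter_subset_right : W ∩ F ⊆ F)
            (by omega)) ▸ Finset.inter_subset_left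
        have hZeq : Z = (W \ F) \ {x, g x} := by
          ext y
          constructor
          · intro hy
            simp only [Z, Finset.mem_filter] at hy
            obtain ⟨o, ho, hinv, hao, hxo, hyo, -⟩ := hcover y hy.1
            rcases hE o ho hinv hao hxo with h | ⟨hFo, -⟩
            · exact absurd hyo (hy.2 o (Finset.mem_filter.2 ⟨(hmem o).2 ⟨ho, hinv, hao, h⟩, hxo⟩))
            · have hoW : o = W := hWu o ⟨ho, Finset.union_subset (hT.trans hFo)
                (by simp [Finset.insert_subset_iff, hxo, (apply_mem hinv).2 hxo])⟩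
              have hyR := hy.1
              simp only [R, Finset.mem_sdiff, Finset.mem_compl] at hyR ⊢
              exact ⟨⟨hoW ▸ hyo, hyR.1⟩, hyR.2⟩
          · intro hy
            simp only [Finset.mem_sdiff] at hy
            have hyR : y ∈ R := by
              simp only [R, Finset.mem_sdiff, Finset.mem_compl]
              exact ⟨hy.1.2, hy.2⟩
            obtain ⟨o₀, -, -, -, -, -, hu⟩ := hcover y hyR
            refine Finset.mem_filter.2 ⟨hyR, fun o ho hyo => ?_⟩
            simp only [U, Finset.mem_filter, hmem] at ho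
            have e1 := hu o ho.1.1 ho.1.2.1 ho.1.2.2.1 ho.2 hyo
            have e2 := hu W hW hWinv (hFW haF) hxW hy.1.1
            have h4 : (W ∩ F).card = 4 := by rw [Finset.inter_eq_right.2 hFW, hF]
            rw [e2, ← e1] at h4
            omega
        rw [hZeq, Finset.card_sdiff_of_subset, Finset.card_sdiff_of_subset hFW, (mem_octads_iff.1 hW).2,
          hF, Finset.card_pair hx'.symm]
        simp [Finset.insert_subset_iff, hxW, hgxW, Finset.mem_compl.1 hx, hgxF]
    have hsub : Z ⊆ R := Finset.filter_subset _ _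
    rw [Finset.card_sdiff_of_subset hsub, hR, hZ] at hcount
    rcases hf with rfl | rfl
    · show U.card = _
      rw [if_pos rfl] at hcount ⊢; omega
    · show U.card = _
      rw [if_neg (by norm_num)] at hcount ⊢; omega
  have := mul_card_eq _ _ 6 _ hk hr
  rw [Finset.card_compl, card_golayPt, hF] at this
  rcases hf with rfl | rfl
  · rw [if_pos rfl] at this; omega
  · rw [if_neg (by norm_num)] at this; omega

theorem false_of_point (H : Bad g D) {p : ℕ} (hp : p.Prime) (hg : g ^ p = 1) {a : GolayPt}
    (ha : g a = a) : False := by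
  have := Fact.mk hp
  classical
  have hDc : g • Dᶜ = Dᶜ := by
    rw [Finset.compl_eq_univ_sdiff, Finset.smul_finset_sdiff, H.inv, Finset.smul_finset_univ]
  have h12 := fixed_mod hg hDc
  rw [Finset.card_compl, card_golayPt, (mem_dodecads_iff.1 H.dodecad).2,
    Finset.filter_false_of_mem (fun x hx => H.out x (Finset.mem_compl.1 hx))] at h12
  have hp12 : p ∣ 12 := Nat.modEq_zero_iff_dvd.1 h12.symm
  have hu := fixed_mod hg (s := (univ : Finset GolayPt)) Finset.smul_finset_univ
  rw [Finset.card_univ, card_golayPt] at hu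
  have h1 : 1 ≤ (univ.filter fun x => g x = x).card := Finset.card_pos.2 ⟨a, by simp [ha]⟩
  have h5 := H.not_five_fixed hg (s := univ.filter fun x => g x = x) (by simp)
  have hp' : p = 2 ∨ p = 3 := by
    have := Nat.le_of_dvd (by norm_num) hp12
    interval_cases p <;> first | omega | norm_num at hp
  rw [Nat.ModEq] at hu
  rcases hp' with rfl | rfl
  · exact H.not_two_or_four hg rfl (by omega)
  · exact H.not_three hg (by omega)

end Bad

theorem squareDodecad_mem : Spor.squareDodecad ∈ dodecads := by
  refine ⟨⟨qrWord 0, Submodule.subset_span (Or.inl ⟨0, rfl⟩), rfl⟩, ?_⟩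
  decide +kernel

end Cfsg.Agent.Golay94
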